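/-! Six semilinear reflections generating Aut(PSU(4,2)), and words for its transvections. -/

set_option autoImplicit false

namespace Cfsg.Agent.AutPSU.FourTwo

/-- The matrices, by rows, entries coded as `0, 1, ω, ω²`. -/
def hCode : List (List Nat) :=
  [
    [0, 0, 0, 1, 0, 0, 1, 0, 0, 1, 0, 0, 1, 0, 0, 0],
    [0, 0, 1, 0, 0, 0, 0, 1, 1, 0, 0, 0, 0, 1, 0, 0],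
    [0, 0, 0, 1, 0, 0, 2, 0, 0, 2, 0, 0, 1, 0, 0, 0],
    [0, 1, 1, 2, 1, 0, 2, 3, 1, 2, 0, 3, 2, 3, 3, 0],
    [0, 1, 0, 0, 1, 0, 0, 0, 0, 0, 0, 1, 0, 0, 1, 0],
    [0, 1, 0, 0, 1, 0, 0, 0, 0, 0, 0, 3, 0, 0, 3, 0]]

/-- For each coded vector a word of the reflections. -/
def tvW : List (List Nat) :=
  [
    [],
    [],
    [],
    [],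
    [],
    [2, 0, 3, 1, 2, 3, 4, 3, 1, 2, 3, 4, 5, 4, 3, 1, 2, 0, 3, 2, 4, 5],
    [3, 1, 2, 3, 4, 3, 1, 2, 3, 4, 5, 4, 3, 1, 2, 3, 4, 5],
    [0, 1, 2, 3, 1, 2, 3, 4, 3, 1, 2, 3, 4, 5, 4, 3, 1, 2, 0, 3, 4, 5],
    [],
    [0, 1, 2, 3, 1, 2, 3, 4, 3, 1, 2, 3, 4, 5, 4, 3, 1, 2, 0, 3, 4, 5],
    [2, 0, 3, 1, 2, 3, 4, 3, 1, 2, 3, 4, 5, 4, 3, 1, 2, 0, 3, 2, 4, 5],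
    [3, 1, 2, 3, 4, 3, 1, 2, 3, 4, 5, 4, 3, 1, 2, 3, 4, 5],
    [],
    [3, 1, 2, 3, 4, 3, 1, 2, 3, 4, 5, 4, 3, 1, 2, 3, 4, 5],
    [0, 1, 2, 3, 1, 2, 3, 4, 3, 1, 2, 3, 4, 5, 4, 3, 1, 2, 0, 3, 4, 5],
    [2, 0, 3, 1, 2, 3, 4, 3, 1, 2, 3, 4, 5, 4, 3, 1, 2, 0, 3, 2, 4, 5],
    [],
    [1, 3, 1, 2, 0, 3, 2, 4, 3, 1, 2, 0, 3, 2, 4, 3, 5, 4, 3, 1, 2, 0, 3, 2, 4, 3, 1, 5, 4, 3],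
    [0, 1, 2, 3, 1, 2, 0, 3, 2, 4, 3, 1, 2, 0, 3, 2, 4, 3, 5, 4, 3, 1, 2, 0, 3, 2, 4, 3, 1, 5, 4, 3, 2, 0],
    [1, 2, 0, 3, 1, 2, 0, 3, 2, 4, 3, 1, 2, 0, 3, 2, 4, 3, 1, 5, 4, 3, 1, 2, 0, 3, 2, 4, 3, 1, 5, 4, 3, 2],
    [0, 1, 2, 0, 3, 1, 2, 0, 3, 2, 4, 3, 1, 2, 0, 3, 2, 4, 3, 1],
    [],
    [],
    [],
    [0, 2, 0, 3, 1, 2, 0, 3, 2, 5, 4, 3, 1, 2, 0, 3, 2, 4, 3, 5],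
    [],
    [],
    [],
    [0, 1, 2, 0, 4, 3, 1, 2, 0, 3, 2, 5, 4, 3, 1, 2, 0, 3, 2, 4, 3, 1, 5, 4],
    [],
    [],
    [],
    [],
    [1, 2, 0, 3, 1, 2, 0, 3, 2, 4, 3, 1, 2, 0, 3, 2, 4, 3, 1, 5, 4, 3, 1, 2, 0, 3, 2, 4, 3, 1, 5, 4, 3, 2],
    [1, 3, 1, 2, 0, 3, 2, 4, 3, 1, 2, 0, 3, 2, 4, 3, 5, 4, 3, 1, 2, 0, 3, 2, 4, 3, 1, 5, 4, 3],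
    [0, 1, 2, 3, 1, 2, 0, 3, 2, 4, 3, 1, 2, 0, 3, 2, 4, 3, 5, 4, 3, 1, 2, 0, 3, 2, 4, 3, 1, 5, 4, 3, 2, 0],
    [0, 1, 2, 0, 4, 3, 1, 2, 0, 3, 2, 5, 4, 3, 1, 2, 0, 3, 2, 4, 3, 1, 5, 4],
    [],
    [],
    [],
    [0, 1, 2, 0, 3, 1, 2, 0, 3, 2, 4, 3, 1, 2, 0, 3, 2, 4, 3, 1],
    [],
    [],
    [],
    [0, 2, 0, 3, 1, 2, 0, 3, 2, 5, 4, 3, 1, 2, 0, 3, 2, 4, 3, 5],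
    [],
    [],
    [],
    [],
    [0, 1, 2, 3, 1, 2, 0, 3, 2, 4, 3, 1, 2, 0, 3, 2, 4, 3, 5, 4, 3, 1, 2, 0, 3, 2, 4, 3, 1, 5, 4, 3, 2, 0],
    [1, 2, 0, 3, 1, 2, 0, 3, 2, 4, 3, 1, 2, 0, 3, 2, 4, 3, 1, 5, 4, 3, 1, 2, 0, 3, 2, 4, 3, 1, 5, 4, 3, 2],
    [1, 3, 1, 2, 0, 3, 2, 4, 3, 1, 2, 0, 3, 2, 4, 3, 5, 4, 3, 1, 2, 0, 3, 2, 4, 3, 1, 5, 4, 3],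
    [0, 2, 0, 3, 1, 2, 0, 3, 2, 5, 4, 3, 1, 2, 0, 3, 2, 4, 3, 5],
    [],
    [],
    [],
    [0, 1, 2, 0, 4, 3, 1, 2, 0, 3, 2, 5, 4, 3, 1, 2, 0, 3, 2, 4, 3, 1, 5, 4],
    [],
    [],
    [],
    [0, 1, 2, 0, 3, 1, 2, 0, 3, 2, 4, 3, 1, 2, 0, 3, 2, 4, 3, 1],
    [],
    [],
    [],
    [],
    [0, 2, 0, 3, 1, 2, 0, 3, 2, 4, 3, 1, 2, 0, 3, 2, 4, 3],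
    [0, 1, 2, 0, 3, 1, 2, 0, 3, 2, 5, 4, 3, 1, 2, 0, 3, 2, 4, 3, 1, 5],
    [0, 2, 0, 4, 3, 1, 2, 0, 3, 2, 5, 4, 3, 1, 2, 0, 3, 2, 4, 3, 5, 4],
    [0, 1, 3, 1, 2, 0, 3, 2, 4, 3, 1, 2, 0, 3, 2, 4, 3, 1, 5, 4, 3, 1, 2, 0, 3, 2, 4, 3, 1, 5, 4, 3],
    [],
    [],
    [],
    [1, 2, 3, 1, 2, 0, 3, 2, 4, 3, 1, 2, 0, 3, 2, 4, 3, 5, 4, 3, 1, 2, 0, 3, 2, 4, 3, 1, 5, 4, 3, 2],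
    [],
    [],
    [],
    [0, 1, 2, 0, 3, 1, 2, 0, 3, 2, 4, 3, 1, 2, 0, 3, 2, 4, 3, 1, 5, 4, 3, 1, 2, 0, 3, 2, 4, 3, 1, 5, 4, 3, 2, 0],
    [],
    [],
    [],
    [0, 1, 2, 0, 3, 1, 2, 3, 4, 3, 1, 2, 3, 4, 5, 4, 3, 1, 2, 0, 3, 2, 4, 5],
    [],
    [],
    [],
    [],
    [0, 1, 2, 0, 3, 1, 2, 3, 4, 3, 1, 2, 0, 3, 2, 4],
    [1, 2, 0, 3, 1, 2, 0, 3, 4, 3, 1, 2, 3, 4, 5, 4, 3, 1, 2, 0, 3, 2, 4, 3, 1, 5],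
    [0, 2, 0, 3, 2, 0, 4, 3, 1, 2, 0, 3, 2, 4, 3, 1, 5, 4, 3, 1, 2, 0, 3, 2, 4, 3, 5, 4],
    [],
    [0, 2, 0, 3, 1, 2, 0, 3, 2, 4, 3, 1, 2, 3, 4, 5, 4, 3, 1, 2, 0, 3, 2, 4, 3, 5],
    [0, 1, 2, 0, 3, 1, 2, 3, 5, 4, 3, 1, 2, 0, 3, 2, 4, 5],
    [1, 2, 0, 3, 1, 2, 0, 4, 3, 1, 2, 0, 3, 2, 4, 5, 4, 3, 1, 2, 0, 3, 2, 4, 3, 1, 5, 4, 3, 2],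
    [],
    [1, 2, 0, 3, 2, 0, 4, 3, 1, 2, 0, 3, 2, 4, 3, 5, 4, 3, 1, 2, 0, 3, 2, 4, 3, 1, 5, 4],
    [0, 2, 0, 3, 1, 2, 0, 4, 3, 1, 2, 0, 3, 2, 5, 4, 3, 1, 2, 0, 3, 2, 4, 3, 1, 5, 4, 3, 2, 0],
    [0, 1, 2, 0, 4, 3, 1, 2, 3, 4, 5, 4, 3, 1, 2, 0, 3, 2, 4, 5],
    [0, 3, 1, 2, 3, 4, 3, 1, 2, 3, 4, 5, 4, 3, 1, 2, 0, 3, 4, 5],
    [],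
    [],
    [],
    [],
    [0, 1, 2, 0, 3, 2, 0, 4, 3, 1, 2, 0, 3, 2, 4, 3, 1, 5, 4, 3, 1, 2, 0, 3, 2, 4, 3, 1, 5, 4],
    [0, 3, 1, 2, 0, 4, 3, 1, 2, 0, 3, 2, 5, 4, 3, 1, 2, 0, 3, 2, 4, 3, 1, 5, 4, 3],
    [0, 1, 2, 4, 3, 1, 2, 3, 4, 5, 4, 3, 1, 2, 0, 3, 4, 5],
    [],
    [0, 1, 2, 3, 1, 2, 3, 4, 3, 1, 2, 0, 3, 4],
    [0, 1, 2, 0, 3, 1, 2, 0, 3, 2, 4, 3, 1, 2, 3, 4, 5, 4, 3, 1, 2, 0, 3, 2, 4, 3, 1, 5],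
    [0, 3, 2, 0, 4, 3, 1, 2, 0, 3, 2, 4, 5, 4, 3, 1, 2, 0, 3, 2, 4, 3, 5, 4],
    [],
    [0, 3, 1, 2, 0, 4, 3, 1, 2, 3, 4, 5, 4, 3, 1, 2, 0, 3, 2, 4, 3, 5],
    [0, 1, 2, 3, 1, 2, 3, 5, 4, 3, 1, 2, 0, 3, 4, 5],
    [0, 1, 2, 0, 3, 1, 2, 0, 4, 3, 1, 2, 0, 3, 2, 4, 5, 4, 3, 1, 2, 0, 3, 2, 4, 3, 1, 5, 4, 3, 2, 0],
    [1, 2, 3, 1, 2, 3, 4, 3, 1, 2, 3, 4, 5, 4, 3, 1, 2, 3, 4, 5],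
    [],
    [],
    [],
    [],
    [2, 0, 3, 1, 2, 0, 3, 4, 3, 1, 2, 3, 4, 5, 4, 3, 1, 2, 0, 3, 2, 4, 3, 5],
    [1, 2, 3, 1, 2, 3, 5, 4, 3, 1, 2, 3, 4, 5],
    [0, 1, 3, 1, 2, 0, 4, 3, 1, 2, 0, 3, 2, 4, 5, 4, 3, 1, 2, 0, 3, 2, 4, 3, 1, 5, 4, 3],
    [],
    [0, 1, 3, 2, 0, 4, 3, 1, 2, 0, 3, 2, 4, 5, 4, 3, 1, 2, 0, 3, 2, 4, 3, 1, 5, 4],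
    [2, 0, 3, 1, 2, 0, 4, 3, 1, 2, 0, 3, 2, 5, 4, 3, 1, 2, 0, 3, 2, 4, 3, 1, 5, 4, 3, 2],
    [1, 2, 4, 3, 1, 2, 3, 4, 5, 4, 3, 1, 2, 3, 4, 5],
    [],
    [1, 2, 3, 1, 2, 3, 4, 3, 1, 2, 3, 4],
    [0, 1, 3, 1, 2, 0, 4, 3, 1, 2, 3, 4, 5, 4, 3, 1, 2, 0, 3, 2, 4, 3, 1, 5],
    [2, 0, 3, 2, 0, 4, 3, 1, 2, 0, 3, 2, 4, 3, 5, 4, 3, 1, 2, 0, 3, 2, 4, 3, 5, 4],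
    [],
    [0, 2, 0, 4, 3, 1, 2, 0, 3, 2, 5, 4, 3, 1, 2, 0, 3, 2, 4, 3, 5, 4],
    [0, 2, 0, 3, 1, 2, 0, 3, 2, 4, 3, 1, 2, 0, 3, 2, 4, 3],
    [0, 1, 2, 0, 3, 1, 2, 0, 3, 2, 5, 4, 3, 1, 2, 0, 3, 2, 4, 3, 1, 5],
    [0, 1, 2, 0, 3, 1, 2, 0, 3, 2, 4, 3, 1, 2, 0, 3, 2, 4, 3, 1, 5, 4, 3, 1, 2, 0, 3, 2, 4, 3, 1, 5, 4, 3, 2, 0],
    [],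
    [],
    [],
    [0, 1, 3, 1, 2, 0, 3, 2, 4, 3, 1, 2, 0, 3, 2, 4, 3, 1, 5, 4, 3, 1, 2, 0, 3, 2, 4, 3, 1, 5, 4, 3],
    [],
    [],
    [],
    [1, 2, 3, 1, 2, 0, 3, 2, 4, 3, 1, 2, 0, 3, 2, 4, 3, 5, 4, 3, 1, 2, 0, 3, 2, 4, 3, 1, 5, 4, 3, 2],
    [],
    [],
    [],
    [1, 2, 3, 1, 2, 3, 4, 3, 1, 2, 3, 4, 5, 4, 3, 1, 2, 3, 4, 5],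
    [],
    [],
    [],
    [],
    [2, 0, 3, 2, 0, 4, 3, 1, 2, 0, 3, 2, 4, 3, 5, 4, 3, 1, 2, 0, 3, 2, 4, 3, 5, 4],
    [1, 2, 3, 1, 2, 3, 4, 3, 1, 2, 3, 4],
    [0, 1, 3, 1, 2, 0, 4, 3, 1, 2, 3, 4, 5, 4, 3, 1, 2, 0, 3, 2, 4, 3, 1, 5],
    [],
    [0, 1, 3, 1, 2, 0, 4, 3, 1, 2, 0, 3, 2, 4, 5, 4, 3, 1, 2, 0, 3, 2, 4, 3, 1, 5, 4, 3],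
    [2, 0, 3, 1, 2, 0, 3, 4, 3, 1, 2, 3, 4, 5, 4, 3, 1, 2, 0, 3, 2, 4, 3, 5],
    [1, 2, 3, 1, 2, 3, 5, 4, 3, 1, 2, 3, 4, 5],
    [],
    [1, 2, 4, 3, 1, 2, 3, 4, 5, 4, 3, 1, 2, 3, 4, 5],
    [0, 1, 3, 2, 0, 4, 3, 1, 2, 0, 3, 2, 4, 5, 4, 3, 1, 2, 0, 3, 2, 4, 3, 1, 5, 4],
    [2, 0, 3, 1, 2, 0, 4, 3, 1, 2, 0, 3, 2, 5, 4, 3, 1, 2, 0, 3, 2, 4, 3, 1, 5, 4, 3, 2],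
    [0, 1, 2, 0, 3, 1, 2, 3, 4, 3, 1, 2, 3, 4, 5, 4, 3, 1, 2, 0, 3, 2, 4, 5],
    [],
    [],
    [],
    [],
    [0, 1, 2, 0, 4, 3, 1, 2, 3, 4, 5, 4, 3, 1, 2, 0, 3, 2, 4, 5],
    [1, 2, 0, 3, 2, 0, 4, 3, 1, 2, 0, 3, 2, 4, 3, 5, 4, 3, 1, 2, 0, 3, 2, 4, 3, 1, 5, 4],
    [0, 2, 0, 3, 1, 2, 0, 4, 3, 1, 2, 0, 3, 2, 5, 4, 3, 1, 2, 0, 3, 2, 4, 3, 1, 5, 4, 3, 2, 0],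
    [],
    [0, 2, 0, 3, 2, 0, 4, 3, 1, 2, 0, 3, 2, 4, 3, 1, 5, 4, 3, 1, 2, 0, 3, 2, 4, 3, 5, 4],
    [0, 1, 2, 0, 3, 1, 2, 3, 4, 3, 1, 2, 0, 3, 2, 4],
    [1, 2, 0, 3, 1, 2, 0, 3, 4, 3, 1, 2, 3, 4, 5, 4, 3, 1, 2, 0, 3, 2, 4, 3, 1, 5],
    [],
    [1, 2, 0, 3, 1, 2, 0, 4, 3, 1, 2, 0, 3, 2, 4, 5, 4, 3, 1, 2, 0, 3, 2, 4, 3, 1, 5, 4, 3, 2],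
    [0, 2, 0, 3, 1, 2, 0, 3, 2, 4, 3, 1, 2, 3, 4, 5, 4, 3, 1, 2, 0, 3, 2, 4, 3, 5],
    [0, 1, 2, 0, 3, 1, 2, 3, 5, 4, 3, 1, 2, 0, 3, 2, 4, 5],
    [0, 3, 1, 2, 3, 4, 3, 1, 2, 3, 4, 5, 4, 3, 1, 2, 0, 3, 4, 5],
    [],
    [],
    [],
    [],
    [0, 1, 2, 0, 3, 1, 2, 0, 4, 3, 1, 2, 0, 3, 2, 4, 5, 4, 3, 1, 2, 0, 3, 2, 4, 3, 1, 5, 4, 3, 2, 0],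
    [0, 3, 1, 2, 0, 4, 3, 1, 2, 3, 4, 5, 4, 3, 1, 2, 0, 3, 2, 4, 3, 5],
    [0, 1, 2, 3, 1, 2, 3, 5, 4, 3, 1, 2, 0, 3, 4, 5],
    [],
    [0, 1, 2, 4, 3, 1, 2, 3, 4, 5, 4, 3, 1, 2, 0, 3, 4, 5],
    [0, 1, 2, 0, 3, 2, 0, 4, 3, 1, 2, 0, 3, 2, 4, 3, 1, 5, 4, 3, 1, 2, 0, 3, 2, 4, 3, 1, 5, 4],
    [0, 3, 1, 2, 0, 4, 3, 1, 2, 0, 3, 2, 5, 4, 3, 1, 2, 0, 3, 2, 4, 3, 1, 5, 4, 3],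
    [],
    [0, 3, 2, 0, 4, 3, 1, 2, 0, 3, 2, 4, 5, 4, 3, 1, 2, 0, 3, 2, 4, 3, 5, 4],
    [0, 1, 2, 3, 1, 2, 3, 4, 3, 1, 2, 0, 3, 4],
    [0, 1, 2, 0, 3, 1, 2, 0, 3, 2, 4, 3, 1, 2, 3, 4, 5, 4, 3, 1, 2, 0, 3, 2, 4, 3, 1, 5],
    [],
    [0, 1, 2, 0, 3, 1, 2, 0, 3, 2, 5, 4, 3, 1, 2, 0, 3, 2, 4, 3, 1, 5],
    [0, 2, 0, 4, 3, 1, 2, 0, 3, 2, 5, 4, 3, 1, 2, 0, 3, 2, 4, 3, 5, 4],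
    [0, 2, 0, 3, 1, 2, 0, 3, 2, 4, 3, 1, 2, 0, 3, 2, 4, 3],
    [1, 2, 3, 1, 2, 0, 3, 2, 4, 3, 1, 2, 0, 3, 2, 4, 3, 5, 4, 3, 1, 2, 0, 3, 2, 4, 3, 1, 5, 4, 3, 2],
    [],
    [],
    [],
    [0, 1, 2, 0, 3, 1, 2, 0, 3, 2, 4, 3, 1, 2, 0, 3, 2, 4, 3, 1, 5, 4, 3, 1, 2, 0, 3, 2, 4, 3, 1, 5, 4, 3, 2, 0],
    [],
    [],
    [],
    [0, 1, 3, 1, 2, 0, 3, 2, 4, 3, 1, 2, 0, 3, 2, 4, 3, 1, 5, 4, 3, 1, 2, 0, 3, 2, 4, 3, 1, 5, 4, 3],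
    [],
    [],
    [],
    [0, 3, 1, 2, 3, 4, 3, 1, 2, 3, 4, 5, 4, 3, 1, 2, 0, 3, 4, 5],
    [],
    [],
    [],
    [],
    [0, 1, 2, 0, 3, 1, 2, 0, 3, 2, 4, 3, 1, 2, 3, 4, 5, 4, 3, 1, 2, 0, 3, 2, 4, 3, 1, 5],
    [0, 3, 2, 0, 4, 3, 1, 2, 0, 3, 2, 4, 5, 4, 3, 1, 2, 0, 3, 2, 4, 3, 5, 4],
    [0, 1, 2, 3, 1, 2, 3, 4, 3, 1, 2, 0, 3, 4],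
    [],
    [0, 1, 2, 3, 1, 2, 3, 5, 4, 3, 1, 2, 0, 3, 4, 5],
    [0, 1, 2, 0, 3, 1, 2, 0, 4, 3, 1, 2, 0, 3, 2, 4, 5, 4, 3, 1, 2, 0, 3, 2, 4, 3, 1, 5, 4, 3, 2, 0],
    [0, 3, 1, 2, 0, 4, 3, 1, 2, 3, 4, 5, 4, 3, 1, 2, 0, 3, 2, 4, 3, 5],
    [],
    [0, 3, 1, 2, 0, 4, 3, 1, 2, 0, 3, 2, 5, 4, 3, 1, 2, 0, 3, 2, 4, 3, 1, 5, 4, 3],
    [0, 1, 2, 4, 3, 1, 2, 3, 4, 5, 4, 3, 1, 2, 0, 3, 4, 5],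
    [0, 1, 2, 0, 3, 2, 0, 4, 3, 1, 2, 0, 3, 2, 4, 3, 1, 5, 4, 3, 1, 2, 0, 3, 2, 4, 3, 1, 5, 4],
    [1, 2, 3, 1, 2, 3, 4, 3, 1, 2, 3, 4, 5, 4, 3, 1, 2, 3, 4, 5],
    [],
    [],
    [],
    [],
    [2, 0, 3, 1, 2, 0, 4, 3, 1, 2, 0, 3, 2, 5, 4, 3, 1, 2, 0, 3, 2, 4, 3, 1, 5, 4, 3, 2],
    [1, 2, 4, 3, 1, 2, 3, 4, 5, 4, 3, 1, 2, 3, 4, 5],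
    [0, 1, 3, 2, 0, 4, 3, 1, 2, 0, 3, 2, 4, 5, 4, 3, 1, 2, 0, 3, 2, 4, 3, 1, 5, 4],
    [],
    [0, 1, 3, 1, 2, 0, 4, 3, 1, 2, 3, 4, 5, 4, 3, 1, 2, 0, 3, 2, 4, 3, 1, 5],
    [2, 0, 3, 2, 0, 4, 3, 1, 2, 0, 3, 2, 4, 3, 5, 4, 3, 1, 2, 0, 3, 2, 4, 3, 5, 4],
    [1, 2, 3, 1, 2, 3, 4, 3, 1, 2, 3, 4],
    [],
    [1, 2, 3, 1, 2, 3, 5, 4, 3, 1, 2, 3, 4, 5],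
    [0, 1, 3, 1, 2, 0, 4, 3, 1, 2, 0, 3, 2, 4, 5, 4, 3, 1, 2, 0, 3, 2, 4, 3, 1, 5, 4, 3],
    [2, 0, 3, 1, 2, 0, 3, 4, 3, 1, 2, 3, 4, 5, 4, 3, 1, 2, 0, 3, 2, 4, 3, 5],
    [0, 1, 2, 0, 3, 1, 2, 3, 4, 3, 1, 2, 3, 4, 5, 4, 3, 1, 2, 0, 3, 2, 4, 5],
    [],
    [],
    [],
    [],
    [0, 1, 2, 0, 3, 1, 2, 3, 5, 4, 3, 1, 2, 0, 3, 2, 4, 5],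
    [1, 2, 0, 3, 1, 2, 0, 4, 3, 1, 2, 0, 3, 2, 4, 5, 4, 3, 1, 2, 0, 3, 2, 4, 3, 1, 5, 4, 3, 2],
    [0, 2, 0, 3, 1, 2, 0, 3, 2, 4, 3, 1, 2, 3, 4, 5, 4, 3, 1, 2, 0, 3, 2, 4, 3, 5],
    [],
    [0, 2, 0, 3, 1, 2, 0, 4, 3, 1, 2, 0, 3, 2, 5, 4, 3, 1, 2, 0, 3, 2, 4, 3, 1, 5, 4, 3, 2, 0],
    [0, 1, 2, 0, 4, 3, 1, 2, 3, 4, 5, 4, 3, 1, 2, 0, 3, 2, 4, 5],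
    [1, 2, 0, 3, 2, 0, 4, 3, 1, 2, 0, 3, 2, 4, 3, 5, 4, 3, 1, 2, 0, 3, 2, 4, 3, 1, 5, 4],
    [],
    [1, 2, 0, 3, 1, 2, 0, 3, 4, 3, 1, 2, 3, 4, 5, 4, 3, 1, 2, 0, 3, 2, 4, 3, 1, 5],
    [0, 2, 0, 3, 2, 0, 4, 3, 1, 2, 0, 3, 2, 4, 3, 1, 5, 4, 3, 1, 2, 0, 3, 2, 4, 3, 5, 4],
    [0, 1, 2, 0, 3, 1, 2, 3, 4, 3, 1, 2, 0, 3, 2, 4]]

end Cfsg.Agent.AutPSU.FourTwo
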