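import Cfsg.Agent.Lib.Small.UFourTwo.Orbit
import Cfsg.Agent.Lib.AutPSU.FourTwo.Data
import Mathlib.GroupTheory.Coxeter.Matrix

/-! Kernel checks for the reflections of Aut(PSU(4,2)). -/

set_option autoImplicit false
set_option maxRecDepth 100000

namespace Cfsg.Agent.AutPSU.FourTwo

open Matrix QuadraticAlgebra
open Cfsg.Agent.UFourTwo (F4 vecOf)

/-- The four elements. -/
def f4Of : ℕ → F4
  | 0 => 0
  | 1 => 1
  | 2 => ⟨0, 1⟩
  | _ => ⟨1, 1⟩

/-- The matrix of a reflection. -/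
def H (x : ℕ) : Matrix (Fin 4) (Fin 4) F4 :=
  Matrix.of fun i j => f4Of ((hCode.getD (x % 6) []).getD (4 * (i : ℕ) + j) 0)

/-- The matrix of a word of semilinear maps. -/
def M : List ℕ → Matrix (Fin 4) (Fin 4) F4
  | [] => 1
  | x :: w => H x * (M w).map star

/-- The candidate transvection. -/
def B (k c : ℕ) : Matrix (Fin 4) (Fin 4) F4 :=
  1 + f4Of c • vecMulVec (vecOf k) (star (vecOf k))

theorem h_unitary : ∀ x : Fin 6, (H x)ᴴ * H x = 1 := by decide +kernel

theorem rel_checked : ∀ i j : Fin 6, ∃ l : Fin 4,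
    M (List.replicate (CoxeterMatrix.E₆.M i j) [(i : ℕ), j]).flatten = f4Of l • 1 := by decide +kernel

theorem tv_checked : ∀ (k : Fin 256) (c : Fin 4), star (vecOf k) ⬝ᵥ vecOf k = 0 →
    (B k c)ᴴ * B k c = 1 → B k c = 1 ∨
      (tvW.getD k []).length % 2 = 0 ∧ ∃ l : Fin 4, B k c = f4Of l • M (tvW.getD k []) := by
  decide +kernel

end Cfsg.Agent.AutPSU.FourTwo
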