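import Cfsg.Prelude.Def_KGroupFacts
import Cfsg.Agent.Lib.AutPSU.Final
import Cfsg.Agent.Lib.AutPSU.Outer
import Cfsg.Agent.Lib.AutPSU.FourTwo.Check
import Cfsg.Agent.Lib.Small.UFourTwo.Iso
import Cfsg.Agent.S1093
import Mathlib.GroupTheory.Coxeter.Basic

/-!
The automorphism group of PSU(4,2) is the Coxeter group of type E6.
-/

set_option autoImplicit false
set_option maxRecDepth 100000

namespace Cfsg.Agent.AutPSU.FourTwo

open Matrix
open Cfsg.Agent.UFourTwo (F4 vecOf)

local notation "Wg" => CoxeterMatrix.E₆.Group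
/-- The Coxeter system. -/
noncomputable def cox : CoxeterSystem CoxeterMatrix.E₆ Wg := CoxeterMatrix.E₆.toCoxeterSystem

theorem card_W : Nat.card Wg = 51840 :=
  S1093.result (⟨6, CoxeterMatrix.E₆⟩, 51840) (List.mem_cons_self ..)

theorem f4_cases (a : F4) : a = 0 ∨ a = 1 ∨ a = f4Of 2 ∨ a = f4Of 3 := by
  obtain ⟨x, y⟩ := a
  revert x y; decide +kernel

theorem f4Of_surj (a : F4) : ∃ c : Fin 4, f4Of c = a := by
  rcases f4_cases a with rfl | rfl | rfl | rfl
  exacts [⟨0, rfl⟩, ⟨1, rfl⟩, ⟨2, rfl⟩, ⟨3, rfl⟩]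

variable {F : Type*} [Field F] [Fintype F] (hF : Fintype.card F = 4)

/-- The order is a square. -/
theorem card_sq (hF : Fintype.card F = 4) : Fintype.card F = 2 ^ 2 := by rw [hF]; norm_num

theorem map_star_eq (j : F4 →+* F) (C : Conj F 2) (a : F4) : j (star a) = C.σ (j a) := by
  rw [UFourTwo.f4_star, map_mul, C.apply_eq, pow_two]

theorem sigma_sq (C : Conj F 2) : C.σ * C.σ = 1 := RingEquiv.ext fun x => C.invol x

theorem sigma_ne (C : Conj F 2) : C.σ ≠ 1 := fun h => by
  obtain ⟨μ, hμ⟩ := C.ne_one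
  exact hμ (by rw [h]; rfl)

theorem sigma_pow_even (C : Conj F 2) {m : ℕ} (hm : m % 2 = 0) : C.σ ^ m = 1 := by
  rw [← Nat.mod_add_div m 2, hm, zero_add, pow_mul, pow_two, sigma_sq, one_pow]

/-- A matrix over `F4` read over `F`. -/
abbrev mp (j : F4 →+* F) (A : Matrix (Fin 4) (Fin 4) F4) : Matrix (Fin 4) (Fin 4) F :=
  j.mapMatrix A

theorem exists_GU (j : F4 →+* F) (hj : Function.Surjective j) {A : Matrix (Fin 4) (Fin 4) F4}
    (hA : Aᴴ * A = 1) : ∃ g : Cfsg.GU 4 F 2, ((g : GL (Fin 4) F) : Matrix (Fin 4) (Fin 4) F) = mp j A := by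
  let u : GL (Fin 4) F := ⟨mp j A, mp j Aᴴ,
    by rw [← map_mul, mul_eq_one_comm.1 hA, map_one], by rw [← map_mul, hA, map_one]⟩
  exact ⟨⟨u, fun x y => UFourTwo.preserve_map hj hA x y⟩, rfl⟩

theorem semi_one_of_scalar (g : Cfsg.GU 4 F 2) (c : F)
    (h : ((g : GL (Fin 4) F) : Matrix (Fin 4) (Fin 4) F) = c • 1) :
    (semi g 1 : MulAut (Cfsg.PSU 4 F 2)) = 1 :=
  semi_scalar g c fun x => by rw [h, Matrix.smul_mulVec, Matrix.one_mulVec]

theorem semi_eq_of_smul (g g' : Cfsg.GU 4 F 2) (c : F)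
    (h : ((g : GL (Fin 4) F) : Matrix (Fin 4) (Fin 4) F) = c • ((g' : GL (Fin 4) F) : Matrix (Fin 4) (Fin 4) F)) :
    (semi g 1 : MulAut (Cfsg.PSU 4 F 2)) = semi g' 1 := by
  have e : (semi (g * g'⁻¹) 1 : MulAut (Cfsg.PSU 4 F 2)) = 1 :=
    semi_one_of_scalar _ c (by
      show ((g : GL (Fin 4) F) : Matrix (Fin 4) (Fin 4) F) * _ = _
      rw [h, Matrix.smul_mul]
      exact congrArg (c • ·) (congrArg Units.val (mul_inv_cancel (g' : GL (Fin 4) F))))
  calc (semi g 1 : MulAut (Cfsg.PSU 4 F 2)) = semi (g * g'⁻¹ * g') 1 := by rw [inv_mul_cancel_right]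
    _ = semi (g * g'⁻¹) 1 * semi g' 1 := by rw [semi_mul_one]
    _ = semi g' 1 := by rw [e, one_mul]

include hF in
theorem semi_inn (g : Cfsg.GU 4 F 2) : (semi g 1 : MulAut (Cfsg.PSU 4 F 2)) ∈ Cfsg.Inn _ := by
  obtain ⟨C⟩ := exists_conj (card_sq hF)
  refine (semi_mem_inn C (by norm_num) (card_sq hF) g).2 ?_
  generalize HermSU.detHom (n := 4) (σ := C.σ.toRingHom) C.apply_eq g = a
  refine ⟨a, Subtype.ext (Units.ext ?_)⟩
  have h := FiniteField.pow_card_sub_one_eq_one ((a : Fˣ) : F) (Units.ne_zero _)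
  rw [hF] at h
  show ((a : Fˣ) : F) ^ 4 = _
  rw [pow_succ, show (3 : ℕ) = 4 - 1 from rfl, h, one_mul]

include hF in
theorem ringAut_cases (C : Conj F 2) (τ : F ≃+* F) : τ = 1 ∨ τ = C.σ := by
  obtain ⟨j, hj⟩ := UFourTwo.exists_embedding hF
  have hσ : C.σ (j (f4Of 2)) = j (f4Of 3) := by
    rw [← map_star_eq j C]; exact congrArg j (by decide +kernel)
  have key : ∀ b, τ (j (f4Of 2)) = b → (b = j (f4Of 2) → τ = 1) ∧ (b = j (f4Of 3) → τ = C.σ) := by
    intro b hb
    have h3 : f4Of 3 = f4Of 2 + 1 := by decide +kernel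
    constructor <;> intro e <;> refine RingEquiv.ext fun x => ?_ <;>
      obtain ⟨a, rfl⟩ := hj.2 x <;> rcases f4_cases a with rfl | rfl | rfl | rfl
    · simp
    · simp
    · rw [hb, e]; rfl
    · rw [h3, map_add, map_one, map_add, map_one, hb, e]; rfl
    · simp
    · simp
    · rw [hb, e, hσ]
    · rw [h3, map_add, map_one, map_add, map_one, map_add, map_one, hb, e, hσ]
  obtain ⟨a, ha⟩ := hj.2 (τ (j (f4Of 2)))
  rcases f4_cases a with rfl | rfl | rfl | rfl
  · rw [map_zero] at ha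
    exact absurd (τ.injective (ha.symm.trans (map_zero τ).symm))
      (fun h => absurd (hj.1 (h.trans (map_zero j).symm)) (by decide +kernel))
  · rw [map_one] at ha
    exact absurd (τ.injective (ha.symm.trans (map_one τ).symm))
      (fun h => absurd (hj.1 (h.trans (map_one j).symm)) (by decide +kernel))
  · exact Or.inl ((key _ ha.symm).1 rfl)
  · exact Or.inr ((key _ ha.symm).2 rfl)

/-- The six reflections. -/
noncomputable def refl (j : F4 →+* F) (hj : Function.Surjective j) (C : Conj F 2) (x : ℕ) :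
    MulAut (Cfsg.PSU 4 F 2) :=
  semi (exists_GU j hj (h_unitary ⟨x % 6, Nat.mod_lt _ (by norm_num)⟩)).choose C.σ

theorem H_mod (x : ℕ) : H (x % 6) = H x := by rw [H, H, Nat.mod_mod]

theorem word_semi (j : F4 →+* F) (hj : Function.Surjective j) (C : Conj F 2) :
    ∀ w : List ℕ, ∃ g : Cfsg.GU 4 F 2,
      ((g : GL (Fin 4) F) : Matrix (Fin 4) (Fin 4) F) = mp j (M w) ∧
      (w.map (refl j hj C)).prod = semi g (C.σ ^ w.length) := by
  intro w
  induction w with
  | nil => exact ⟨1, by simp [M], by simp [semi_one]⟩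
  | cons x w ih =>
    obtain ⟨g, hg, e⟩ := ih
    set h := (exists_GU j hj (h_unitary ⟨x % 6, Nat.mod_lt _ (by norm_num)⟩)).choose with hh
    have hs := (exists_GU j hj (h_unitary ⟨x % 6, Nat.mod_lt _ (by norm_num)⟩)).choose_spec
    refine ⟨h * mapGU C.σ g, ?_, ?_⟩
    · show ((h : GL (Fin 4) F) : Matrix (Fin 4) (Fin 4) F) *
        ((g : GL (Fin 4) F) : Matrix (Fin 4) (Fin 4) F).map C.σ = _
      rw [M, mp, map_mul, hh, hs, hg, H_mod]
      refine congrArg (_ * ·) ?_
      ext a b
      exact (map_star_eq j C _).symm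
    · rw [List.map_cons, List.prod_cons, e, refl, semi_mul, List.length_cons, pow_succ']

theorem liftable (j : F4 →+* F) (hj : Function.Surjective j) (C : Conj F 2) :
    CoxeterMatrix.E₆.IsLiftable fun i : Fin 6 => refl j hj C (i : ℕ) := by
  intro i i'
  obtain ⟨l, hl⟩ := rel_checked i i'
  obtain ⟨g, hg, e⟩ := word_semi j hj C
    (List.replicate (CoxeterMatrix.E₆.M i i') [(i : ℕ), i']).flatten
  have e2 : ∀ m : ℕ, ((List.replicate m [(i : ℕ), i']).flatten.map (refl j hj C)).prod =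
      (refl j hj C i * refl j hj C i') ^ m := by
    intro m
    induction m with
    | zero => rfl
    | succ m ih =>
      rw [List.replicate_succ, List.flatten_cons, List.map_append, List.prod_append, ih, pow_succ']
      simp
  rw [e2, sigma_pow_even C (by
    induction (CoxeterMatrix.E₆.M i i') with
    | zero => rfl
    | succ m ih => simp [List.replicate_succ, Nat.add_mod, ih])] at e
  refine e.trans ?_
  refine semi_one_of_scalar g (j (f4Of l)) ?_
  rw [hg, hl, mp]
  ext a b
  by_cases hab : a = b <;> simp [hab, Matrix.one_apply]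

include hF in
/-- The Coxeter group of type E6 is the automorphism group of PSU(4,2). -/
theorem exists_equiv : ∃ e : Wg ≃* MulAut (Cfsg.PSU 4 F 2),
    ∀ w : List (Fin 6), w.length % 2 = 0 → e (cox.wordProd w) ∈ Cfsg.Inn (Cfsg.PSU 4 F 2) := by
  obtain ⟨j, hj⟩ := UFourTwo.exists_embedding hF
  obtain ⟨C⟩ := exists_conj (card_sq hF)
  obtain ⟨hcard, hsimp, -⟩ := UFourTwo.card_psu hF
  let f := cox.lift ⟨fun i : Fin 6 => refl j hj.2 C (i : ℕ), liftable j hj.2 C⟩
  have hword : ∀ w : List (Fin 6), f (cox.wordProd w) = ((w.map Fin.val).map (refl j hj.2 C)).prod := by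
    intro w
    induction w with
    | nil => simp
    | cons x w ih =>
      rw [CoxeterSystem.wordProd_cons, map_mul, ih, CoxeterSystem.lift_apply_simple]
      simp
  have heven : ∀ w : List (Fin 6), w.length % 2 = 0 → f (cox.wordProd w) ∈ Cfsg.Inn (Cfsg.PSU 4 F 2) := by
    intro w hw
    obtain ⟨g, -, e⟩ := word_semi j hj.2 C (w.map Fin.val)
    rw [hword, e, List.length_map, sigma_pow_even C hw]
    exact semi_inn hF g
  have hinn : Cfsg.Inn (Cfsg.PSU 4 F 2) ≤ f.range := by
    obtain ⟨σ, -, hsu, -⟩ := UnitaryStd.exists_setup (n := 4) (card_sq hF) (by norm_num)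
    intro x hx
    obtain ⟨y, rfl⟩ := hx
    obtain ⟨s, rfl⟩ := QuotientGroup.mk_surjective y
    have hs : s ∈ (⊤ : Subgroup (Cfsg.SU 4 F 2)) := Subgroup.mem_top _
    rw [← UnitaryStd.closure_eq_top hsu (by norm_num) (fun e => absurd e (by norm_num))] at hs
    induction hs using Subgroup.closure_induction with
    | one =>
      show MulAut.conj ((1 : Cfsg.SU 4 F 2) : Cfsg.PSU 4 F 2) ∈ f.range
      rw [QuotientGroup.mk_one, map_one]; exact one_mem _
    | mul a b _ _ ha hb =>
      show MulAut.conj ((a * b : Cfsg.SU 4 F 2) : Cfsg.PSU 4 F 2) ∈ f.range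
      rw [QuotientGroup.mk_mul, map_mul]; exact mul_mem ha hb
    | inv a _ ha =>
      show MulAut.conj ((a⁻¹ : Cfsg.SU 4 F 2) : Cfsg.PSU 4 F 2) ∈ f.range
      rw [QuotientGroup.mk_inv, map_inv]; exact inv_mem ha
    | mem A hA =>
      obtain ⟨v, c, hv, hA⟩ := hA
      obtain ⟨v', rfl⟩ := hj.2.comp_left v
      obtain ⟨c', rfl⟩ := hj.2 c
      obtain ⟨c₀, rfl⟩ := f4Of_surj c'
      obtain ⟨k, rfl⟩ := UFourTwo.exists_code v'
      have hiso : star (vecOf k) ⬝ᵥ vecOf k = 0 :=
        hj.1 (by rw [map_zero, dotProduct_comm, ← UFourTwo.hermForm_map, hv])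
      have hBA : mp j (B k c₀) = A.1.1 := by
        rw [hA]
        ext a b
        by_cases hab : a = b <;>
          simp [mp, B, hab, Cfsg.unitaryTransvection, Matrix.vecMulVec, UFourTwo.f4_star, pow_two]
      have hBu : (B k c₀)ᴴ * B k c₀ = 1 := by
        have hcol : ∀ i, B k c₀ *ᵥ Pi.single i 1 = fun l => B k c₀ l i := fun i => funext fun l => by
          simp [Matrix.mulVec_single]
        ext a b : 1
        apply hj.1
        have h' := A.2 (j ∘ Pi.single b 1) (j ∘ Pi.single a 1)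
        change Cfsg.hermForm 4 F 2 (A.1.1 *ᵥ _) (A.1.1 *ᵥ _) = _ at h'
        rw [← hBA] at h'
        have e : ∀ w : Fin 4 → F4, mp j (B k c₀) *ᵥ (j ∘ w) = j ∘ (B k c₀ *ᵥ w) := fun w =>
          funext fun l => (RingHom.map_mulVec j _ w l).symm
        rw [e, e, UFourTwo.hermForm_map, UFourTwo.hermForm_map, hcol, hcol] at h'
        rw [show ((B k c₀)ᴴ * B k c₀) a b = (fun l => B k c₀ l b) ⬝ᵥ star (fun l => B k c₀ l a) by
          simp [Matrix.mul_apply, dotProduct, mul_comm], h']
        congr 1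
        by_cases hab : a = b <;> simp [dotProduct, Pi.single_apply, Matrix.one_apply, hab, eq_comm]
      show MulAut.conj ((A : Cfsg.SU 4 F 2) : Cfsg.PSU 4 F 2) ∈ f.range
      rw [inner_eq_semi]
      rcases tv_checked k c₀ hiso hBu with h1 | ⟨hlen, l, hl⟩
      · rw [semi_one_of_scalar _ 1 (by show A.1.1 = _; rw [← hBA, h1, mp, map_one, one_smul])]
        exact one_mem _
      · obtain ⟨g, hg, e⟩ := word_semi j hj.2 C (tvW.getD k [])
        rw [sigma_pow_even C hlen] at e
        refine ⟨((tvW.getD k []).map fun x => cox.simple ⟨x % 6, Nat.mod_lt _ (by norm_num)⟩).prod, ?_⟩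
        rw [map_list_prod, List.map_map]
        refine Eq.trans ?_ (e.trans (semi_eq_of_smul _ g (j (f4Of l)) ?_).symm)
        · refine congrArg List.prod (List.map_congr_left fun x _ => ?_)
          show f (cox.simple _) = _
          rw [CoxeterSystem.lift_apply_simple]
          simp [refl, Nat.mod_mod]
        · show A.1.1 = _
          rw [← hBA, hl, hg, mp]
          ext a b
          simp
  have hsurj : Function.Surjective f := by
    intro β
    obtain ⟨g, τ, rfl⟩ := exists_semi' (by norm_num : 3 ≤ 4) (card_sq hF) (by norm_num) β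
    obtain rfl | rfl := ringAut_cases hF C τ
    · exact hinn (semi_inn hF g)
    · show semi g C.σ ∈ f.range
      obtain ⟨g₀, hg1⟩ : ∃ g₀, f (cox.simple 0) = semi g₀ C.σ :=
        ⟨_, CoxeterSystem.lift_apply_simple cox _ 0⟩
      have h1 : (semi g C.σ : MulAut (Cfsg.PSU 4 F 2)) =
          semi g 1 * ((semi g₀ 1)⁻¹ * f (cox.simple 0)) := by
        rw [hg1, semi_decomp g₀ C.σ, inv_mul_cancel_left, ← semi_decomp]
      rw [h1]
      exact mul_mem (hinn (semi_inn hF g)) (mul_mem (inv_mem (hinn (semi_inn hF _))) ⟨_, rfl⟩)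
  have hcinn : Nat.card (Cfsg.Inn (Cfsg.PSU 4 F 2)) = 25920 := by
    rw [← hcard]
    refine (Nat.card_congr (MonoidHom.ofInjective (f := (MulAut.conj : Cfsg.PSU 4 F 2 →* _)) ?_).toEquiv).symm
    refine (MonoidHom.ker_eq_bot_iff _).1 (((MonoidHom.normal_ker _).eq_bot_or_eq_top).resolve_right fun h => ?_)
    have hc : Subgroup.center (Cfsg.PSU 4 F 2) = ⊤ := eq_top_iff.2 fun x _ => Subgroup.mem_center_iff.2
      fun y => by
        have := DFunLike.congr_fun (MonoidHom.mem_ker.1 (h.ge (Subgroup.mem_top x))) y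
        rw [MulAut.conj_apply, MulAut.one_apply, mul_inv_eq_iff_eq_mul] at this
        exact this.symm
    have hcomm : IsMulCommutative (Cfsg.PSU 4 F 2) :=
      ⟨⟨fun a b => Subgroup.mem_center_iff.1 (hc.ge (Subgroup.mem_top b)) a⟩⟩
    letI : CommGroup (Cfsg.PSU 4 F 2) :=
      { (inferInstance : Group (Cfsg.PSU 4 F 2)) with mul_comm := hcomm.is_comm.comm }
    have := IsSimpleGroup.prime_card (α := Cfsg.PSU 4 F 2)
    rw [hcard] at this
    norm_num at this
  have hne : Cfsg.Inn (Cfsg.PSU 4 F 2) ≠ ⊤ := by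
    intro h
    have h0 : f (cox.simple 0) ∈ Cfsg.Inn (Cfsg.PSU 4 F 2) := h ▸ Subgroup.mem_top _
    obtain ⟨y, hy⟩ := h0
    obtain ⟨s, rfl⟩ := QuotientGroup.mk_surjective y
    rw [inner_eq_semi, CoxeterSystem.lift_apply_simple] at hy
    exact sigma_ne C ((semi_eq_semi C (by norm_num) (card_sq hF)).1 hy).1.symm
  have hbij : Function.Bijective f := by
    haveI : Finite Wg := Nat.finite_of_card_ne_zero (by rw [card_W]; norm_num)
    haveI : Finite (MulAut (Cfsg.PSU 4 F 2)) := Finite.of_surjective f hsurj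
    refine (Nat.bijective_iff_surjective_and_card f).2 ⟨hsurj, le_antisymm ?_ ?_⟩
    · rw [card_W, ← Subgroup.card_mul_index (Cfsg.Inn (Cfsg.PSU 4 F 2)), hcinn]
      have h1 := Subgroup.one_lt_index_of_ne_top hne
      omega
    · exact Nat.card_le_card_of_surjective f hsurj
  exact ⟨MulEquiv.ofBijective f hbij, heven⟩

include hF in
/-- A non-trivial normal subgroup of the Coxeter group contains the even words and is not nilpotent. -/
theorem normal_dichotomy (N : Subgroup Wg) [hN : N.Normal] (hne : N ≠ ⊥) :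
    (∀ w : List (Fin 6), w.length % 2 = 0 → cox.wordProd w ∈ N) ∧ ¬ Group.IsNilpotent N := by
  obtain ⟨e, he⟩ := exists_equiv hF
  obtain ⟨hcard, hsimp, -⟩ := UFourTwo.card_psu hF
  set P := Cfsg.PSU 4 F 2 with hP
  have hnc : ¬ ∀ a b : P, a * b = b * a := fun h => by
    letI : CommGroup P := { (inferInstance : Group P) with mul_comm := h }
    have := IsSimpleGroup.prime_card (α := P)
    rw [hcard] at this
    norm_num at this
  have hcinj : Function.Injective (MulAut.conj : P →* MulAut P) := by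
    refine (MonoidHom.ker_eq_bot_iff _).1
      (((MonoidHom.normal_ker _).eq_bot_or_eq_top).resolve_right fun h => hnc fun a b => ?_)
    have := DFunLike.congr_fun (MonoidHom.mem_ker.1 (h.ge (Subgroup.mem_top a))) b
    rwa [MulAut.conj_apply, MulAut.one_apply, mul_inv_eq_iff_eq_mul] at this
  set N' := N.map e.toMonoidHom with hN'
  haveI : N'.Normal := hN.map e.toMonoidHom e.surjective
  have hne' : N' ≠ ⊥ := fun h => hne ((Subgroup.map_eq_bot_iff_of_injective _ e.injective).1 h)
  have hinn : Cfsg.Inn P ≤ N' := by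
    rcases (inferInstance : (N'.comap (MulAut.conj : P →* MulAut P)).Normal).eq_bot_or_eq_top with h | h
    · exfalso
      refine hne' ((Subgroup.eq_bot_iff_forall _).2 fun b hb => MulEquiv.ext fun x => ?_)
      have hmem : MulAut.conj (b x * x⁻¹) ∈ N' := by
        have e2 : MulAut.conj (b x * x⁻¹) = b * (MulAut.conj x * b⁻¹ * (MulAut.conj x)⁻¹) := by
          have e3 : MulAut.conj (b x) = b * MulAut.conj x * b⁻¹ := by
            ext y
            simp [MulAut.mul_apply, MulAut.conj_apply]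
          rw [map_mul, map_inv, e3]
          group
        rw [e2]
        exact mul_mem hb ((inferInstance : N'.Normal).conj_mem _ (inv_mem hb) _)
      have : b x * x⁻¹ ∈ N'.comap (MulAut.conj : P →* MulAut P) := hmem
      rw [h, Subgroup.mem_bot, mul_inv_eq_one] at this
      exact this
    · rintro _ ⟨x, rfl⟩
      exact (h.ge (Subgroup.mem_top x) : x ∈ N'.comap _)
  refine ⟨fun w hw => ?_, fun hnil => ?_⟩
  · obtain ⟨y, hy, hye⟩ := hinn (he w hw)
    rwa [← e.injective hye]
  · haveI : Group.IsNilpotent N' := Group.nilpotent_of_mulEquiv (N.equivMapOfInjective _ e.injective)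
    haveI : Group.IsNilpotent P :=
      Group.nilpotent_of_mulEquiv (MonoidHom.ofInjective (f := ((MulAut.conj : P →* MulAut P).codRestrict N'
        fun x => hinn ⟨x, rfl⟩)) fun a b h => hcinj (congrArg Subtype.val h)).symm
    haveI : Nontrivial P := IsSimpleGroup.toNontrivial
    rcases ((inferInstance : (Subgroup.center P).Normal)).eq_bot_or_eq_top with h | h
    · exact (Group.IsNilpotent.center_ne_bot (G := P)) h
    · exact hnc fun a b => Subgroup.mem_center_iff.1 (h.ge (Subgroup.mem_top b)) a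

end Cfsg.Agent.AutPSU.FourTwo
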